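import Mathlib

/-!
# (C2) for S3282 (helper71): Burnside transfer at every prime `≠ p` gives a normal Sylow
`p`-subgroup.  Mathlib only.
-/

set_option autoImplicit false

namespace Cfsg.Agent.Helper60.BSW

open Subgroup MonoidHom

/-- an element whose order divides a power of `p` and a power of `ℓ ≠ p` is trivial -/
theorem eq_one_of_pow_pow {A : Type*} [Group A] {p ℓ : ℕ} (hp : p.Prime) (hℓ : ℓ.Prime)
    (hne : ℓ ≠ p) (a : A) {i j : ℕ} (h1 : a ^ (p ^ i) = 1) (h2 : a ^ (ℓ ^ j) = 1) : a = 1 := by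
  have d1 : orderOf a ∣ p ^ i := orderOf_dvd_of_pow_eq_one h1
  have d2 : orderOf a ∣ ℓ ^ j := orderOf_dvd_of_pow_eq_one h2
  have hc : Nat.Coprime (p ^ i) (ℓ ^ j) :=
    Nat.Coprime.pow i j ((Nat.coprime_primes hp hℓ).mpr (Ne.symm hne))
  have : orderOf a = 1 := Nat.eq_one_of_dvd_coprimes hc d1 d2
  exact orderOf_eq_one_iff.mp this

theorem normal_sylow_of_transfer {L : Type*} [Group L] [Finite L] (p : ℕ) [Fact p.Prime]
    (h : ∀ ℓ : ℕ, ∀ _ : Fact ℓ.Prime, ℓ ≠ p → ∀ A : Sylow ℓ L,
      Subgroup.normalizer ((A : Subgroup L) : Set L) ≤ Subgroup.centralizer ((A : Subgroup L) : Set L)) :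
    ∃ M : Sylow p L, (M : Subgroup L).Normal := by
  classical
  have hp : p.Prime := Fact.out
  obtain ⟨S⟩ : Nonempty (Sylow p L) := inferInstance
  -- the index type: primes different from `p`
  let I := {ℓ : ℕ // ℓ.Prime ∧ ℓ ≠ p}
  have hfact : ∀ i : I, Fact (i.1).Prime := fun i => ⟨i.2.1⟩
  let A : ∀ i : I, Sylow i.1 L := fun i =>
    haveI := hfact i
    Classical.choice (inferInstance : Nonempty (Sylow i.1 L))
  have hA : ∀ i : I, Subgroup.normalizer ((A i : Subgroup L) : Set L) ≤
      Subgroup.centralizer ((A i : Subgroup L) : Set L) := fun i => h i.1 (hfact i) i.2.2 (A i)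
  let N : I → Subgroup L := fun i => (transferSylow (A i) (hA i)).ker
  let M : Subgroup L := ⨅ i, N i
  have hMn : M.Normal := Subgroup.normal_iInf_normal fun i => by
    show ((transferSylow (A i) (hA i)).ker).Normal
    infer_instance
  -- `S ≤ M`
  have hSM : (S : Subgroup L) ≤ M := by
    intro s hs
    rw [Subgroup.mem_iInf]
    intro i
    show s ∈ (transferSylow (A i) (hA i)).ker
    rw [MonoidHom.mem_ker]
    obtain ⟨k, hk⟩ := S.2 ⟨s, hs⟩
    have hk' : s ^ (p ^ k) = 1 := by
      have := congrArg (Subtype.val) hk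
      simpa using this
    obtain ⟨j, hj⟩ := (A i).2 (transferSylow (A i) (hA i) s)
    have h1 : (transferSylow (A i) (hA i) s) ^ (p ^ k) = 1 := by
      rw [← map_pow, hk', map_one]
    exact eq_one_of_pow_pow hp i.2.1 i.2.2 _ h1 hj
  -- `M` is a `p`-group
  have hMp : IsPGroup p M := by
    intro g
    have hpos : orderOf g ≠ 0 := (orderOf_pos g).ne'
    have hpow : orderOf g = p ^ (orderOf g).primeFactorsList.length := by
      apply Nat.eq_prime_pow_of_unique_prime_dvd hpos
      intro ℓ hℓ hdvd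
      by_contra hne
      let i : I := ⟨ℓ, hℓ, hne⟩
      haveI := hfact i
      have hgN : (g : L) ∈ N i := (Subgroup.mem_iInf.mp g.2) i
      have hnd : ¬ ℓ ∣ Nat.card (transferSylow (A i) (hA i)).ker :=
        not_dvd_card_ker_transferSylow (A i) (hA i)
      apply hnd
      have ho : orderOf (g : L) = orderOf g := Subgroup.orderOf_coe g
      have h2 : orderOf (⟨(g : L), hgN⟩ : (transferSylow (A i) (hA i)).ker) = orderOf (g : L) :=
        (Subgroup.orderOf_coe (⟨(g : L), hgN⟩ : (transferSylow (A i) (hA i)).ker)).symm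
      have h3 : orderOf (⟨(g : L), hgN⟩ : (transferSylow (A i) (hA i)).ker) ∣
          Nat.card (transferSylow (A i) (hA i)).ker := orderOf_dvd_natCard _
      rw [h2, ho] at h3
      exact hdvd.trans h3
    exact ⟨_, by rw [← hpow]; exact pow_orderOf_eq_one g⟩
  have hMS : M = (S : Subgroup L) := S.3 hMp hSM
  exact ⟨S, hMS ▸ hMn⟩

end Cfsg.Agent.Helper60.BSW
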